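import Groth.Agent.Pic13.H542.HomFin

/-!
# `Hom` of coherent modules in a family over an affine base is finitely spanned on fibres

`exists_span_ring`: for `X` proper over a Noetherian ring `A` and coherent `E₁`, `E₀`, finitely many maps
`φ_j : E₁ ⟶ E₀` generate all maps as an `A`-module.

`exists_span_family`: for `F`, `G` coherent on `X ×_k Spec A` finitely many maps `φ_j : F ⟶ G` have the property that
the restriction of every map `F ⟶ G` to a slice is a `k`-linear combination of the restrictions of the `φ_j`.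
-/

set_option autoImplicit false
universe u

open CategoryTheory CategoryTheory.Limits AlgebraicGeometry

namespace Groth.Agent.Pic13.H950.HomSpan

open Groth.Agent.Pic13.H542.CokerFamily Groth.Agent.Pic13.H542.HomFin Groth.Agent.CohqB.HomSheaf

section Ring

variable {X : Scheme.{u}} (E₁ E₀ : X.Modules) (A : Type u) [CommRing A] [X.Over (Spec (CommRingCat.of A))]

theorem e0_smul_ring (t : A) (x : Coh.HH X (homSheaf E₁ E₀) 0) :
    e0 E₁ E₀ (t • x) = Formal.smulMod A E₁ t ≫ e0 E₁ E₀ x := by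
  apply Scheme.Modules.hom_ext
  intro U
  ext m
  change (topEquiv E₁ E₀ (CurvesB.HZero.equivAdd _ (t • x))).app U m = _
  rw [CurvesB.HZero.equivAdd_smul_over, topEquiv_app, comp_smul]
  refine Eq.trans ?_ ((comp (CurvesB.HZero.equivAdd (homSheaf E₁ E₀) x) U le_top).map_smul
    (X.presheaf.map (homOfLE (le_top (a := U))).op (CurvesB.HZero.gl A X t)) m).symm
  rfl

variable {E₁ E₀}

/-- **`Hom` of coherent modules on a proper scheme over a Noetherian ring is finitely generated.** -/
theorem exists_span_ring [IsNoetherianRing A] [IsProper (X ↘ Spec (CommRingCat.of A))] (h₁ : Coh.IsCoh E₁)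
    (h₀ : Coh.IsCoh E₀) :
    ∃ (r : ℕ) (φ : Fin r → (E₁ ⟶ E₀)), ∀ u : E₁ ⟶ E₀, ∃ c : Fin r → A,
      u = ∑ j, Formal.smulMod A E₁ (c j) ≫ φ j := by
  have : IsLocallyNoetherian X := LocallyOfFiniteType.isLocallyNoetherian (X ↘ Spec (CommRingCat.of A))
  have hfin := S0002.result A X _ (isCoh_homSheaf h₁ h₀) 0
  obtain ⟨r, s, hs⟩ := Module.Finite.exists_fin (R := A) (M := Coh.HH X (homSheaf E₁ E₀) 0)
  refine ⟨r, fun j => e0 E₁ E₀ (s j), fun u => ?_⟩
  have hu : (e0 E₁ E₀).symm u ∈ Submodule.span A (Set.range s) := by rw [hs]; trivial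
  obtain ⟨c, hc⟩ := (Submodule.mem_span_range_iff_exists_fun A).1 hu
  refine ⟨c, ?_⟩
  rw [← (e0 E₁ E₀).apply_symm_apply u, ← hc, map_sum]
  exact Finset.sum_congr rfl fun j _ => e0_smul_ring E₁ E₀ A _ _

end Ring

variable (k : Type u) [Field k] {X : Scheme.{u}} [X.Over (Spec (CommRingCat.of k))]

/-- The constant of `k` which is the value of a function on `Spec A` at the `k`-point `t`. -/
noncomputable def val {A : CommRingCat.{u}} (t : Spec (CommRingCat.of k) ⟶ Spec A) (a : A) : k :=
  (Scheme.ΓSpecIso (CommRingCat.of k)).hom (t.appTop ((Scheme.ΓSpecIso A).inv a))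

/-- Functions coming from `Spec A`, restricted to a slice. -/
theorem slice_function {A : CommRingCat.{u}} (q : Spec A ⟶ Spec (CommRingCat.of k))
    (t : Spec (CommRingCat.of k) ⟶ Spec A) (ht : t ≫ q = 𝟙 _) (a : A) :
    (Pic13.sliceAt k X q t ht).appTop.hom
      (Coh.toGlobal (A := A) (pullback.snd (X ↘ Spec (CommRingCat.of k)) q) a) =
      Coh.toGlobal (X ↘ Spec (CommRingCat.of k)) (val k t a) := by
  refine (sliceAt_appTop k X q t ht ((Scheme.ΓSpecIso A).inv a)).trans ?_
  change _ = (X ↘ Spec (CommRingCat.of k)).appTop ((Scheme.ΓSpecIso (CommRingCat.of k)).inv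
    ((Scheme.ΓSpecIso (CommRingCat.of k)).hom (t.appTop ((Scheme.ΓSpecIso A).inv a))))
  congr 1
  exact ((Scheme.ΓSpecIso (CommRingCat.of k)).hom_inv_id_apply _).symm

/-- **Maps between coherent modules in a family**: for `F`, `G` coherent on `X ×_k Spec A`, `X` proper over `k`
and `A` of finite type, finitely many maps `φ_j : F ⟶ G` span the restrictions of all maps `F ⟶ G` to any slice. -/
theorem exists_span_family [IsProper (X ↘ Spec (CommRingCat.of k))] {A : CommRingCat.{u}} [IsNoetherianRing A]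
    (q : Spec A ⟶ Spec (CommRingCat.of k)) [LocallyOfFiniteType q] {F G : (Pic13.prodK k X q).Modules}
    (hF : Coh.IsCoh F) (hG : Coh.IsCoh G) :
    ∃ (r : ℕ) (φ : Fin r → (F ⟶ G)), ∀ (h : F ⟶ G) (t : Spec (CommRingCat.of k) ⟶ Spec A) (ht : t ≫ q = 𝟙 _),
      ∃ c : Fin r → k, (Scheme.Modules.pullback (Pic13.sliceAt k X q t ht)).map h =
        linComb k (fun j => (Scheme.Modules.pullback (Pic13.sliceAt k X q t ht)).map (φ j)) c := by
  let p : Pic13.prodK k X q ⟶ Spec (CommRingCat.of (A : Type u)) := pullback.snd (X ↘ Spec (CommRingCat.of k)) q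
  let _ : (Pic13.prodK k X q).Over (Spec (CommRingCat.of (A : Type u))) := ⟨p⟩
  have : IsProper ((Pic13.prodK k X q) ↘ Spec (CommRingCat.of (A : Type u))) :=
    inferInstanceAs (IsProper (pullback.snd (X ↘ Spec (CommRingCat.of k)) q))
  obtain ⟨r, φ, hφ⟩ := exists_span_ring (A : Type u) hF hG
  refine ⟨r, φ, fun h t ht => ?_⟩
  obtain ⟨a, ha⟩ := hφ h
  refine ⟨fun j => val k t (a j), ?_⟩
  rw [ha, linComb, Functor.map_sum]
  refine Finset.sum_congr rfl fun j _ => ?_
  rw [Functor.map_comp]
  congr 1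
  change (Scheme.Modules.pullback (Pic13.sliceAt k X q t ht)).map
    (Formal.smulModΓ F (Coh.toGlobal (A := A) (pullback.snd (X ↘ Spec (CommRingCat.of k)) q) (a j))) =
      Formal.smulModΓ _ (Coh.toGlobal (X ↘ Spec (CommRingCat.of k)) (val k t (a j)))
  rw [Ega1.PullFormal.pullback_smulModΓ, slice_function]

end Groth.Agent.Pic13.H950.HomSpan
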