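import Mathlib.LinearAlgebra.FreeModule.PID
import Mathlib.Algebra.EuclideanDomain.Int
import Mathlib.LinearAlgebra.FreeModule.Int
import Mathlib.LinearAlgebra.Dimension.Constructions
import Mathlib.LinearAlgebra.Dimension.Finite
import Mathlib.LinearAlgebra.LinearIndependent.Lemmas
import Mathlib.LinearAlgebra.FiniteDimensional.Basic
import Mathlib.Data.ZMod.Basic
import Mathlib.Data.Rat.Cast.CharZero
import Mathlib.SetTheory.Cardinal.Finite

/-!
# Finitely many functionals detect all

`A` an abelian group, `l ≥ 2` with `A / l A` finite (in the form: a finite set of representatives), `F i : A →+ ℤ` any family.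
Then there are finitely many indices `s` such that an element killed by `F i`, `i ∈ s`, is killed by all `F i`.
-/

set_option autoImplicit false

namespace Groth.Agent.Pic13.H950.Detect

open Module

variable {A : Type*} [AddCommGroup A]

/-- A linearly independent finite family of functionals `A → ℤ` has at most `log_l |A/l|` members. -/
theorem pow_card_le (l : ℕ) (hl : 2 ≤ l) (S : Finset A) (hS : ∀ a : A, ∃ s ∈ S, ∃ d, a = s + l • d)
    {J : Type*} [Fintype J] (F : J → A →+ ℤ)
    (hF : ∀ c : J → ℤ, (∀ a, ∑ j, c j * F j a = 0) → c = 0) :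
    l ^ Fintype.card J ≤ S.card := by
  classical
  -- the map `A → ℤ^J`
  let φ : A →+ (J → ℤ) := ⟨⟨fun a j => F j a, by ext j; simp⟩, fun a b => by ext j; simp⟩
  let N : Submodule ℤ (J → ℤ) := LinearMap.range φ.toIntLinearMap
  obtain ⟨n, b⟩ := Submodule.basisOfPid (Pi.basisFun ℤ J) N
  -- the rank is full
  have hn : Fintype.card J ≤ n := by
    -- `c ↦ (x ↦ Σ c_j x_j)`, `ℤ^J → (Fin n → ℤ)` is injective
    let ψ : (J → ℤ) →ₗ[ℤ] (Fin n → ℤ) :=
      { toFun := fun c i => ∑ j, c j * (b i : J → ℤ) j
        map_add' := fun c d => by ext i; simp [add_mul, Finset.sum_add_distrib]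
        map_smul' := fun r c => by ext i; simp [Finset.mul_sum, mul_assoc] }
    have hψ : Function.Injective ψ := by
      rw [← LinearMap.ker_eq_bot, LinearMap.ker_eq_bot']
      intro c hc
      apply hF
      -- the functional vanishes on `N`
      let χ : (J → ℤ) →ₗ[ℤ] ℤ :=
        { toFun := fun x => ∑ j, c j * x j
          map_add' := fun x y => by simp [mul_add, Finset.sum_add_distrib]
          map_smul' := fun r x => by
            simp only [Pi.smul_apply, smul_eq_mul, RingHom.id_apply, Finset.mul_sum]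
            exact Finset.sum_congr rfl fun j _ => by ring }
      have h0 : χ ∘ₗ N.subtype = 0 := by
        apply b.ext
        intro i
        have := congrFun hc i
        simpa [ψ, χ] using this
      intro a
      have := LinearMap.congr_fun h0 ⟨φ a, ⟨a, rfl⟩⟩
      simpa [χ, φ] using this
    have := LinearMap.finrank_le_finrank_of_injective hψ
    simpa using this
  -- `A → (Fin n → ZMod l)` surjective and factoring through `A / l`
  have : NeZero l := ⟨by omega⟩
  let θ : A →+ (Fin n → ZMod l) :=
    { toFun := fun a i => ((b.repr ⟨φ a, ⟨a, rfl⟩⟩ i : ℤ) : ZMod l)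
      map_zero' := by
        ext i
        have : (⟨φ 0, ⟨0, rfl⟩⟩ : N) = 0 := by ext1; simp
        rw [this]; simp
      map_add' := fun x y => by
        ext i
        have : (⟨φ (x + y), ⟨x + y, rfl⟩⟩ : N) = ⟨φ x, ⟨x, rfl⟩⟩ + ⟨φ y, ⟨y, rfl⟩⟩ := by ext1; simp
        rw [this]; simp }
  have hθ : Function.Surjective θ := by
    intro v
    let w : N := b.equivFun.symm fun i => ((v i).val : ℤ)
    obtain ⟨a, ha⟩ := w.2
    refine ⟨a, ?_⟩
    ext i
    change ((b.repr ⟨φ a, ⟨a, rfl⟩⟩ i : ℤ) : ZMod l) = v i
    have h1 : (⟨φ a, ⟨a, rfl⟩⟩ : N) = w := Subtype.ext ha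
    have h2 : b.repr w i = ((v i).val : ℤ) := by
      have := congrFun (b.equivFun.apply_symm_apply fun i => ((v i).val : ℤ)) i
      rwa [Basis.equivFun_apply] at this
    rw [h1, h2]
    simp
  have hsurj : Function.Surjective (fun s : S => θ s.1) := by
    intro v
    obtain ⟨a, rfl⟩ := hθ v
    obtain ⟨s, hs, d, rfl⟩ := hS a
    refine ⟨⟨s, hs⟩, ?_⟩
    have : θ (l • d) = 0 := by
      rw [map_nsmul]
      ext i
      simp
    rw [map_add, this, add_zero]
  have hc := Fintype.card_le_of_surjective _ hsurj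
  simp only [Fintype.card_coe, Fintype.card_fun, ZMod.card, Fintype.card_fin] at hc
  exact (Nat.pow_le_pow_right (by omega) hn).trans hc

/-- **Finitely many functionals detect all.** -/
theorem exists_finset_detect (l : ℕ) (hl : 2 ≤ l) (S : Finset A)
    (hS : ∀ a : A, ∃ s ∈ S, ∃ d, a = s + l • d) {I : Type*} (F : I → A →+ ℤ) :
    ∃ s : Finset I, ∀ a, (∀ i ∈ s, F i a = 0) → ∀ i, F i a = 0 := by
  classical
  -- `V = Hom(A, ℚ)`
  let f : I → (A →+ ℚ) := fun i => (Int.castAddHom ℚ).comp (F i)
  -- choose a maximal independent subfamily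
  obtain ⟨t, ht1, ht2, ht3⟩ := exists_linearIndependent ℚ (Set.range f)
  -- bound for finite subsets
  have hb : ∀ u : Finset (A →+ ℚ), (u : Set (A →+ ℚ)) ⊆ t → u.card ≤ Nat.log l S.card := by
    intro u hu
    have hch : ∀ x : u, ∃ i, f i = x := fun x => ht1 (hu x.2)
    choose g hg using hch
    have hli : LinearIndependent ℚ (fun x : u => (x : A →+ ℚ)) := by
      refine ht3.comp (fun x : u => (⟨x, hu x.2⟩ : t)) ?_
      intro x y hxy
      simpa using hxy
    have := pow_card_le l hl S hS (fun x : u => F (g x)) (by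
      intro c hc
      have h0 : ∑ x : u, (c x : ℚ) • (x : A →+ ℚ) = 0 := by
        ext a
        rw [AddMonoidHom.finsetSum_apply]
        have := congrArg (Int.cast : ℤ → ℚ) (hc a)
        push_cast at this
        simp only [AddMonoidHom.smul_apply, smul_eq_mul, AddMonoidHom.zero_apply]
        rw [← this]
        refine Finset.sum_congr rfl fun x _ => ?_
        conv_lhs => rw [← hg x]
        rfl
      ext x
      have := Fintype.linearIndependent_iff.mp hli (fun x => (c x : ℚ)) h0 x
      exact_mod_cast this)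
    have hSpos : S.card ≠ 0 := by
      obtain ⟨s, hs, -⟩ := hS 0
      exact (Finset.card_pos.mpr ⟨s, hs⟩).ne'
    rw [Fintype.card_coe] at this
    exact Nat.le_log_of_pow_le (by omega) this
  have htfin : t.Finite := by
    by_contra hinf
    obtain ⟨u, hu1, hu2⟩ := Set.Infinite.exists_subset_card_eq (s := t) hinf (Nat.log l S.card + 1)
    have := hb u hu1
    omega
  have hch : ∀ x : t, ∃ i, f i = x := fun x => ht1 x.2
  choose g hg using hch
  have : Fintype t := htfin.fintype
  refine ⟨Finset.univ.image g, fun a ha i => ?_⟩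
  have hmem : f i ∈ Submodule.span ℚ t := by
    rw [ht2]; exact Submodule.subset_span ⟨i, rfl⟩
  -- evaluation at `a`
  let ev : (A →+ ℚ) →ₗ[ℚ] ℚ :=
    { toFun := fun h => h a, map_add' := fun _ _ => rfl, map_smul' := fun _ _ => rfl }
  have hle : Submodule.span ℚ t ≤ LinearMap.ker ev := by
    rw [Submodule.span_le]
    intro x hx
    have h1 := hg ⟨x, hx⟩
    have h2 : F (g ⟨x, hx⟩) a = 0 := ha _ (Finset.mem_image_of_mem _ (Finset.mem_univ _))
    change x a = 0
    have h3 : (x : A →+ ℚ) = f (g ⟨x, hx⟩) := h1.symm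
    rw [h3]
    change ((F (g ⟨x, hx⟩) a : ℤ) : ℚ) = 0
    rw [h2]; simp
  have h4 := hle hmem
  have h5 : ((F i a : ℤ) : ℚ) = 0 := h4
  exact_mod_cast h5

end Groth.Agent.Pic13.H950.Detect
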