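import Groth.Prelude.Def_Pic13
import Groth.Agent.Grpsch.PicGrp
import Groth.Agent.Etcore.DegZero
import Groth.Agent.Pic13.H950.Detect

/-!
# Numerically trivial classes

`X` proper over the field `k`.

* `Curve X` : the integral closed curves of `X`; `dgc k X C : Pic X → ℤ` the degree of a class on `C`
  (`dgc_mk` : it is `Pic13.curveDeg`), `dgc_mul`, `dgc_inv`, `dgc_zpow`, `degOn : Additive (Pic X) →+ ℤ`.
* `numCl k X : Subgroup (Pic X)`, `mem_numCl_iff`.
* `exists_curves` : if `Pic X / n` is finite for one `n ≥ 2` then finitely many integral closed curves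
  detect numerical triviality.
-/

set_option autoImplicit false
universe u

open CategoryTheory CategoryTheory.Limits AlgebraicGeometry

namespace Groth.Agent.Pic13.H950.NumCl

open Groth.Agent.Grpsch.PicGrp Groth.Agent.Etcore

local notation "Sp" k:max => Spec (CommRingCat.of k)

/-- An integral closed curve of `X`. -/
structure Curve (X : Scheme.{u}) : Type (u + 1) where
  /-- the curve -/
  Y : Scheme.{u}
  /-- the closed immersion -/
  ι : Y ⟶ X
  /-- it is a closed immersion -/
  closed : IsClosedImmersion ι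
  /-- it is integral -/
  integral : IsIntegral Y
  /-- it has dimension one -/
  dim : topologicalKrullDim Y = 1

attribute [instance] Curve.closed Curve.integral

section

variable (k : Type u) [Field k] (X : Scheme.{u}) [X.Over (Sp k)]

/-- The degree of a class on a curve. -/
noncomputable def dgc (C : Curve X) (a : Pic X) : ℤ :=
  @DegZero.dg k _ C.Y ⟨C.ι ≫ (X ↘ (Sp k))⟩ (pull C.ι a)

theorem dgc_mk (C : Curve X) {L : X.Modules} (hL : PicF.IsInvertible L) :
    dgc k X C (mk L hL) = Pic13.curveDeg k (C.ι ≫ (X ↘ (Sp k)))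
      ((Scheme.Modules.pullback C.ι).obj L) := rfl

theorem dgc_one (C : Curve X) : dgc k X C 1 = 0 := by
  rw [dgc, map_one]
  exact @DegZero.dg_one k _ C.Y ⟨C.ι ≫ (X ↘ (Sp k))⟩

variable [IsProper (X ↘ (Sp k))]

theorem dgc_mul (C : Curve X) (a b : Pic X) : dgc k X C (a * b) = dgc k X C a + dgc k X C b := by
  rw [dgc, map_mul]
  let _ : C.Y.Over (Sp k) := ⟨C.ι ≫ (X ↘ (Sp k))⟩
  have : IsProper (C.Y ↘ (Sp k)) :=
    inferInstanceAs (IsProper (C.ι ≫ (X ↘ (Sp k))))
  exact DegZero.dg_mul k C.Y C.dim _ _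

/-- The degree on a curve, as an additive homomorphism. -/
noncomputable def degOn (C : Curve X) : Additive (Pic X) →+ ℤ where
  toFun a := dgc k X C a.toMul
  map_zero' := dgc_one k X C
  map_add' a b := dgc_mul k X C a.toMul b.toMul

theorem degOn_ofMul (C : Curve X) (a : Pic X) : degOn k X C (Additive.ofMul a) = dgc k X C a := rfl

theorem dgc_inv (C : Curve X) (a : Pic X) : dgc k X C a⁻¹ = - dgc k X C a :=
  map_neg (degOn k X C) (Additive.ofMul a)

theorem dgc_div (C : Curve X) (a b : Pic X) : dgc k X C (a / b) = dgc k X C a - dgc k X C b :=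
  map_sub (degOn k X C) (Additive.ofMul a) (Additive.ofMul b)

theorem dgc_pow (C : Curve X) (a : Pic X) (n : ℕ) : dgc k X C (a ^ n) = n * dgc k X C a := by
  have := map_nsmul (degOn k X C) n (Additive.ofMul a)
  rw [nsmul_eq_mul] at this
  exact this

theorem dgc_zpow (C : Curve X) (a : Pic X) (n : ℤ) : dgc k X C (a ^ n) = n * dgc k X C a := by
  have := map_zsmul (degOn k X C) n (Additive.ofMul a)
  rw [zsmul_eq_mul] at this
  exact_mod_cast this

/-- The subgroup of numerically trivial classes. -/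
def numCl : Subgroup (Pic X) where
  carrier := {a | ∀ C : Curve X, dgc k X C a = 0}
  one_mem' := fun C => dgc_one k X C
  mul_mem' := fun {a b} ha hb C => by
    rw [dgc_mul, ha C, hb C, add_zero]
  inv_mem' := fun {a} ha C => by
    rw [dgc_inv, ha C, neg_zero]

theorem mem_numCl {a : Pic X} : a ∈ numCl k X ↔ ∀ C : Curve X, dgc k X C a = 0 := Iff.rfl

theorem mem_numCl_iff {L : X.Modules} (hL : PicF.IsInvertible L) :
    mk L hL ∈ numCl k X ↔ Pic13.IsNumEquivZero k X L := by
  constructor
  · intro h Y i hi hY hd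
    exact h ⟨Y, i, hi, hY, hd⟩
  · intro h C
    exact h C.Y C.ι C.integral C.dim

theorem pow_mem_numCl_iff {a : Pic X} {n : ℕ} (hn : n ≠ 0) : a ^ n ∈ numCl k X ↔ a ∈ numCl k X := by
  refine ⟨fun h C => ?_, fun h => pow_mem h n⟩
  have := h C
  rw [dgc_pow] at this
  rcases mul_eq_zero.mp this with h1 | h1
  · exact absurd (by exact_mod_cast h1) hn
  · exact h1

theorem zpow_mem_numCl_iff {a : Pic X} {n : ℤ} (hn : n ≠ 0) : a ^ n ∈ numCl k X ↔ a ∈ numCl k X := by
  refine ⟨fun h C => ?_, fun h => zpow_mem h n⟩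
  have := h C
  rw [dgc_zpow] at this
  rcases mul_eq_zero.mp this with h1 | h1
  · exact absurd h1 hn
  · exact h1

/-- **Finitely many curves detect numerical triviality** when `Pic X / n` is finite for one `n ≥ 2`. -/
theorem exists_curves (n : ℕ) (hn : 2 ≤ n)
    (hfin : ∃ S : Set (Pic X), S.Finite ∧ ∀ c : Pic X, ∃ s ∈ S, ∃ d, c = s * d ^ n) :
    ∃ (p : ℕ) (C : Fin p → Curve X), ∀ a : Pic X, (∀ j, dgc k X (C j) a = 0) → a ∈ numCl k X := by
  classical
  obtain ⟨S, hSf, hS⟩ := hfin
  obtain ⟨s, hs⟩ := Detect.exists_finset_detect (A := Additive (Pic X)) n hn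
    (hSf.toFinset.map Additive.ofMul.toEmbedding) (fun a => by
      obtain ⟨x, hx, d, hd⟩ := hS a.toMul
      refine ⟨Additive.ofMul x, Finset.mem_map_of_mem _ (hSf.mem_toFinset.mpr hx), Additive.ofMul d, ?_⟩
      apply Additive.toMul.injective
      rw [hd]
      rfl) (fun C : Curve X => degOn k X C)
  refine ⟨s.card, fun j => (s.equivFin.symm j).1, fun a ha C => ?_⟩
  exact hs (Additive.ofMul a) (fun i hi => by
    have h1 : dgc k X (s.equivFin.symm (s.equivFin ⟨i, hi⟩)).1 a = 0 := ha (s.equivFin ⟨i, hi⟩)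
    rwa [Equiv.symm_apply_apply] at h1) C

end

end Groth.Agent.Pic13.H950.NumCl
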