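import Groth.Agent.Pic13.H950.NumCl
import Groth.Agent.Pic13.H138.Finite
import Groth.Agent.Pic13.H969.Bridge
import Groth.Agent.Pic13.H504.Descent

/-!
# `S4284` from: numerically trivial classes are bounded, finitely many curves detect numerical
triviality, algebraic equivalence preserves degrees
-/

set_option autoImplicit false
universe u

open CategoryTheory CategoryTheory.Limits AlgebraicGeometry

namespace Groth.Agent.Pic13.H950.Asm

open Groth.Agent.Grpsch.PicGrp Groth.Agent.Etcore Groth.Agent.Pic13.H138.BddPic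
  Groth.Agent.Pic13.H138.AlgEquiv Groth.Agent.Pic13.H950.NumCl

variable (k : Type u) [Field k] (X : Scheme.{u}) [X.Over (Spec (CommRingCat.of k))]
  [IsProper (X ↘ Spec (CommRingCat.of k))]

/-- Classes whose degrees on finitely many detecting curves are bounded form a bounded set. -/
theorem bddPic_of_bounded_degrees (hB : BddPic k X (numCl k X : Set (Pic X)))
    {J : Type*} [Finite J] (C : J → Curve X) (hC : ∀ a : Pic X, (∀ j, dgc k X (C j) a = 0) → a ∈ numCl k X)
    (A : Set (Pic X)) (B : ℤ) (hA : ∀ a ∈ A, ∀ j, |dgc k X (C j) a| ≤ B) : BddPic k X A := by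
  classical
  -- the degree vector
  let v : Pic X → (J → ℤ) := fun a j => dgc k X (C j) a
  have hfin : (v '' A).Finite := by
    refine (Set.Finite.pi' (fun _ : J => Set.finite_Icc (-B) B)).subset ?_
    rintro _ ⟨a, ha, rfl⟩ j
    exact Set.mem_Icc.mpr (abs_le.mp (hA a ha j))
  choose! r hr hr' using fun w (hw : w ∈ v '' A) => hw
  refine (BddPic.biUnion hfin (fun w => (fun a => r w * a) '' (numCl k X : Set (Pic X)))
    (fun w _ => hB.smul (r w))).mono ?_
  intro a ha
  refine Set.mem_biUnion (x := v a) ⟨a, ha, rfl⟩ ⟨a / r (v a), ?_, ?_⟩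
  · refine hC _ fun j => ?_
    rw [dgc_div, sub_eq_zero]
    exact (congrFun (hr' (v a) ⟨a, ha, rfl⟩) j).symm
  · exact mul_div_cancel _ _

/-- On a bounded set of classes the degrees on a curve are bounded. -/
theorem exists_bound_of_bddPic [IsAlgClosed k]
    (hdeg : ∀ (C : Curve X), ∀ a ∈ alg0 k X, dgc k X C a = 0)
    {A : Set (Pic X)} (hA : BddPic k X A) {J : Type*} [Finite J] (C : J → Curve X) :
    ∃ B : ℤ, ∀ a ∈ A, ∀ j, |dgc k X (C j) a| ≤ B := by
  classical
  obtain ⟨s, hs, -, h⟩ := H138.Finite.exists_finite hA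
  have hfin : (Set.range fun x : s × J => |dgc k X (C x.2) x.1|).Finite := by
    have : Finite s := hs
    exact Set.finite_range _
  obtain ⟨B, hB⟩ := hfin.bddAbove
  refine ⟨B, fun a ha j => ?_⟩
  obtain ⟨b, hb, hab⟩ := h a ha
  rw [algEq_iff_mem] at hab
  have h1 := hdeg (C j) _ hab
  rw [← div_eq_mul_inv, dgc_div, sub_eq_zero] at h1
  rw [← h1]
  exact hB ⟨(⟨b, hb⟩, j), rfl⟩

/-- **S4284, conditional form.** -/
theorem result_of [IsAlgClosed k] (hB : BddPic k X (numCl k X : Set (Pic X)))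
    (hdeg : ∀ (C : Curve X), ∀ a ∈ alg0 k X, dgc k X C a = 0)
    (hcur : ∃ (p : ℕ) (C : Fin p → Curve X), ∀ a : Pic X, (∀ j, dgc k X (C j) a = 0) → a ∈ numCl k X) :
    ∃ (p : ℕ) (Y : Fin p → Scheme.{u}) (ι : ∀ j, Y j ⟶ X),
      (∀ j, IsClosedImmersion (ι j) ∧ IsIntegral (Y j) ∧ topologicalKrullDim (Y j) = 1) ∧
      ∀ P : X.Modules → Prop, (∀ L, P L → PicF.IsInvertible L) →
        (Pic13.IsBounded k X P ↔ ∃ B : ℤ, ∀ L, P L → ∀ j,
          |Pic13.curveDeg k (ι j ≫ (X ↘ Spec (CommRingCat.of k))) ((Scheme.Modules.pullback (ι j)).obj L)| ≤ B) := by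
  obtain ⟨p, C, hC⟩ := hcur
  refine ⟨p, fun j => (C j).Y, fun j => (C j).ι, fun j => ⟨(C j).closed, (C j).integral, (C j).dim⟩,
    fun P hP => ⟨fun hb => ?_, fun ⟨B, hBd⟩ => ?_⟩⟩
  · obtain ⟨B, hBd⟩ := exists_bound_of_bddPic k X hdeg (H969.Bridge.bridge k X P hb) C
    exact ⟨B, fun L hL j => hBd (mk L (hP L hL)) ⟨L, hP L hL, hL, rfl⟩ j⟩
  · have hA : BddPic k X {a | ∃ (L : X.Modules) (hL : PicF.IsInvertible L), P L ∧ a = mk L hL} := by
      refine bddPic_of_bounded_degrees k X hB C hC _ B ?_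
      rintro _ ⟨L, hL, h, rfl⟩ j
      exact hBd L h j
    exact H504.Descent.isBounded_of_bddPic hP hA (fun L hL h => ⟨L, hL, h, rfl⟩)

end Groth.Agent.Pic13.H950.Asm
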