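import Groth.Agent.Pic13.H950.NumCl
import Groth.Agent.Pic13.H35.FinPic

/-!
# Finitely many curves detect numerical triviality
-/

set_option autoImplicit false
universe u

open CategoryTheory CategoryTheory.Limits AlgebraicGeometry

namespace Groth.Agent.Pic13.H950.Curves

open Groth.Agent.Grpsch.PicGrp Groth.Agent.Pic13.H950.NumCl

/-- **Theorem of the base, detection form**: on a proper scheme over a separably closed field there are
finitely many integral closed curves such that an invertible module of degree zero on each of them is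
numerically trivial. -/
theorem exists_curves (k : Type u) [Field k] [IsSepClosed k] (X : Scheme.{u})
    [X.Over (Spec (CommRingCat.of k))] [IsProper (X ↘ Spec (CommRingCat.of k))] :
    ∃ (p : ℕ) (C : Fin p → Curve X), ∀ a : Pic X, (∀ j, dgc k X (C j) a = 0) → a ∈ numCl k X := by
  obtain ⟨n, hn, hnk⟩ : ∃ n : ℕ, 2 ≤ n ∧ (n : k) ≠ 0 := by
    by_cases h : ((2 : ℕ) : k) = 0
    · refine ⟨3, by norm_num, fun h3 => one_ne_zero (α := k) ?_⟩
      have : ((3 : ℕ) : k) = ((2 : ℕ) : k) + 1 := by norm_num
      rw [h3, h, zero_add] at this
      exact this.symm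
    · exact ⟨2, le_rfl, h⟩
  exact NumCl.exists_curves k X n hn (H35.FinPic.exists_finset (X ↘ Spec (CommRingCat.of k)) n hnk)

end Groth.Agent.Pic13.H950.Curves
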